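import Groth.Agent.FibDimLib.Formula
import Mathlib

/-!
# Algebraic independence from a component of codimension two
-/

set_option autoImplicit false
set_option linter.style.haveILetI false

universe u

open Polynomial

namespace CodimTwoIndepLib

variable {k A : Type u} [Field k] [CommRing A] [IsNoetherianRing A] [Algebra k A]

/-- A pair cutting out a prime of height at least two satisfies no polynomial relation. -/
theorem eval₂_ne_zero (a b : A) (p : Ideal A) (hp : p ∈ (Ideal.span {a, b}).minimalPrimes) (hh : 1 < p.height)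
    (Q : Polynomial (Polynomial k)) (hQ : Q ≠ 0) : Q.eval₂ (Polynomial.aeval a).toRingHom b ≠ 0 := by
  classical
  intro h0
  haveI := hp.1.1
  have ha : a ∈ p := hp.1.2 (Ideal.subset_span (by simp))
  have hb : b ∈ p := hp.1.2 (Ideal.subset_span (by simp))
  have hinj : Function.Injective fun N : ℕ => (Polynomial.X : Polynomial k) ^ (N + 1) := fun M N h => by
    simpa using congrArg Polynomial.natDegree h
  obtain ⟨N, hN⟩ : ∃ N : ℕ, Q.eval ((Polynomial.X : Polynomial k) ^ (N + 1)) ≠ 0 := by
    by_contra hc
    push Not at hc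
    exact hQ (Polynomial.eq_zero_of_infinite_isRoot Q (((Set.infinite_range_of_injective hinj)).mono (by
      rintro _ ⟨N, rfl⟩; exact hc N)))
  obtain ⟨r, hr, hr0⟩ := Polynomial.exists_eq_pow_rootMultiplicity_mul_and_not_dvd _ hN 0
  simp only [map_zero, sub_zero] at hr hr0
  have hru : Polynomial.aeval a r ∉ p := fun h => by
    obtain ⟨t, ht⟩ := Polynomial.X_dvd_sub_C (p := r)
    have h1 : algebraMap k A (r.coeff 0) ∈ p := by
      have : algebraMap k A (r.coeff 0) = Polynomial.aeval a r - a * Polynomial.aeval a t := by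
        have h2 := congrArg (Polynomial.aeval a) ht
        simp only [map_sub, map_mul, Polynomial.aeval_C, Polynomial.aeval_X] at h2
        rw [← h2]; ring
      rw [this]
      exact sub_mem h (Ideal.mul_mem_right _ _ ha)
    have hne : r.coeff 0 ≠ 0 := fun h => hr0 (Polynomial.X_dvd_iff.2 h)
    exact Ideal.IsPrime.ne_top inferInstance
      (Ideal.eq_top_of_isUnit_mem _ h1 ((isUnit_iff_ne_zero.2 hne).map (algebraMap k A)))
  set b' := b - a ^ (N + 1) with hb'
  have hdvd : b' ∣ Polynomial.aeval a (Q.eval ((Polynomial.X : Polynomial k) ^ (N + 1))) := by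
    have h1 : Polynomial.aeval a (Q.eval ((Polynomial.X : Polynomial k) ^ (N + 1))) =
        (Q.map (Polynomial.aeval a).toRingHom).eval (a ^ (N + 1)) := by
      rw [Polynomial.eval_map, show a ^ (N + 1) = (Polynomial.aeval a).toRingHom ((Polynomial.X : Polynomial k) ^ (N + 1)) by simp,
        Polynomial.eval₂_at_apply]
      rfl
    have h2 := Polynomial.sub_dvd_eval_sub b (a ^ (N + 1)) (Q.map (Polynomial.aeval a).toRingHom)
    have h3 : (Q.map (Polynomial.aeval a).toRingHom).eval b = 0 := by rw [Polynomial.eval_map, h0]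
    rw [h3, zero_sub, dvd_neg, ← h1] at h2
    exact h2
  have hmin : p ∈ (Ideal.span {b'}).minimalPrimes := by
    have hbp : b' ∈ p := sub_mem hb (Ideal.pow_mem_of_mem _ ha _ (Nat.succ_pos N))
    refine ⟨⟨inferInstance, (Ideal.span_singleton_le_iff_mem _).2 hbp⟩, fun P hP hle => ?_⟩
    haveI := hP.1
    have hbP : b' ∈ P := hP.2 (Ideal.mem_span_singleton_self _)
    have haP : a ∈ P := by
      have h1 : Polynomial.aeval a (Q.eval ((Polynomial.X : Polynomial k) ^ (N + 1))) ∈ P :=
        Ideal.mem_of_dvd _ hdvd hbP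
      rw [hr, map_mul, map_pow, Polynomial.aeval_X] at h1
      rcases Ideal.IsPrime.mem_or_mem inferInstance h1 with h1 | h1
      · exact Ideal.IsPrime.mem_of_pow_mem inferInstance _ h1
      · exact absurd (hle h1) hru
    have hbP' : b ∈ P := by
      have := add_mem hbP (Ideal.pow_mem_of_mem _ haP _ (Nat.succ_pos N))
      simpa [hb'] using this
    exact hp.2 ⟨inferInstance, Ideal.span_le.2 (Set.insert_subset haP (Set.singleton_subset_iff.2 hbP'))⟩ hle
  haveI : (Ideal.span {b'}).IsPrincipal := ⟨b', rfl⟩
  exact not_le.2 hh (Ideal.height_le_one_of_isPrincipal_of_mem_minimalPrimes _ p hmin)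

theorem exists_translate {F : Type u} [CommRing F] [IsDomain F] [Infinite F] {σ : Type} [DecidableEq σ]
    (c : MvPolynomial σ F) (hc : c ≠ 0) (i : σ) :
    ∃ a : σ → F, MvPolynomial.eval a c ≠ 0 ∧ MvPolynomial.eval (a + Pi.single i 1) c ≠ 0 := by
  let τ : MvPolynomial σ F →ₐ[F] MvPolynomial σ F :=
    MvPolynomial.bind₁ fun j => MvPolynomial.X j + MvPolynomial.C ((Pi.single i 1 : σ → F) j)
  let τ' : MvPolynomial σ F →ₐ[F] MvPolynomial σ F :=
    MvPolynomial.bind₁ fun j => MvPolynomial.X j - MvPolynomial.C ((Pi.single i 1 : σ → F) j)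
  have hτ : τ'.comp τ = AlgHom.id F _ := MvPolynomial.algHom_ext fun j => by simp [τ, τ']
  have hne : c * τ c ≠ 0 := mul_ne_zero hc fun h => hc (by
    rw [← AlgHom.id_apply (R := F) c, ← hτ, AlgHom.comp_apply, h, map_zero])
  obtain ⟨a, ha⟩ : ∃ a : σ → F, MvPolynomial.eval a (c * τ c) ≠ 0 := by
    by_contra hall
    push Not at hall
    exact hne (MvPolynomial.funext fun a => by rw [hall a, map_zero])
  rw [map_mul] at ha
  refine ⟨a, left_ne_zero_of_mul ha, fun h => right_ne_zero_of_mul ha ?_⟩
  rw [← h]
  show MvPolynomial.eval₂Hom (RingHom.id F) a (MvPolynomial.bind₁ _ c) = _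
  rw [MvPolynomial.eval₂Hom_bind₁]
  congr 2
  funext j
  simp

/-- The algebraic independence statement. -/
theorem exists_algebraicIndependent [IsDomain A] [Algebra.FiniteType k A] (m : ℕ) (g : Fin (m + 2) → A)
    (p : Ideal A) (hp : p ∈ (Ideal.span {g 0, g 1}).minimalPrimes)
    (hdim : ringKrullDim (A ⧸ p) + 2 = ringKrullDim A) :
    ∃ c : Fin (m + 2) → k,
      AlgebraicIndependent k
        (Sum.elim
          (fun i : Fin (m + 2) => algebraMap (MvPolynomial (Fin (m + 2)) (FractionRing A)) (FractionRing (MvPolynomial (Fin (m + 2)) (FractionRing A))) (MvPolynomial.X i))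
          ![∑ i, algebraMap A (FractionRing (MvPolynomial (Fin (m + 2)) (FractionRing A))) (g i) *
              algebraMap (MvPolynomial (Fin (m + 2)) (FractionRing A)) (FractionRing (MvPolynomial (Fin (m + 2)) (FractionRing A))) (MvPolynomial.X i),
            algebraMap A (FractionRing (MvPolynomial (Fin (m + 2)) (FractionRing A))) (∑ i, c i • g i)]) := by
  classical
  refine ⟨Pi.single 0 1, ?_⟩
  have hsum : ∑ i, (Pi.single 0 1 : Fin (m + 2) → k) i • g i = g 0 := by
    rw [Finset.sum_eq_single 0 (fun i _ hi => by simp [hi]) (by simp), Pi.single_eq_same, one_smul]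
  rw [hsum]
  haveI := hp.1.1
  have hh : 1 < p.height := by
    haveI := Ideal.Quotient.nontrivial_iff.2 (Ideal.IsPrime.ne_top (I := p) inferInstance)
    have h1 := FibDimLib.ringKrullDim_quotient_add_height_affine k A p
    rw [← hdim] at h1
    obtain ⟨e, he⟩ : ∃ e : ℕ, p.height = e := ⟨p.height.toNat, (ENat.coe_toNat (Ideal.height_ne_top (Ideal.IsPrime.ne_top inferInstance))).symm⟩
    obtain ⟨d, hd⟩ : ∃ d : ℕ, ringKrullDim (A ⧸ p) = d := by
      haveI : IsDomain (A ⧸ p) := inferInstance
      haveI : Algebra.FiniteType k (A ⧸ p) :=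
        Algebra.FiniteType.of_surjective (Ideal.Quotient.mkₐ k p) Ideal.Quotient.mk_surjective
      obtain ⟨n, f, hf⟩ := Algebra.FiniteType.iff_quotient_mvPolynomial''.1 (inferInstance : Algebra.FiniteType k (A ⧸ p))
      have h1 := ringKrullDim_le_of_surjective f.toRingHom hf
      rw [MvPolynomial.ringKrullDim_of_isNoetherianRing, ringKrullDim_eq_zero_of_field, zero_add] at h1
      have h2 := ringKrullDim_nonneg_of_nontrivial (R := A ⧸ p)
      revert h1 h2
      generalize ringKrullDim (A ⧸ p) = w
      intro h1 h2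
      induction w with
      | bot => simp at h2
      | coe w =>
        induction w with
        | top => exact absurd h1 (not_le.2 (WithBot.coe_lt_coe.2 (ENat.coe_lt_top _)))
        | coe w => exact ⟨w, rfl⟩
    rw [hd, he] at h1
    rw [he]
    have h1' : ((d + e : ℕ) : WithBot ℕ∞) = ((d + 2 : ℕ) : WithBot ℕ∞) := by push_cast; exact h1
    norm_cast at h1' ⊢
    omega
  let E := FractionRing A
  let M := MvPolynomial (Fin (m + 2)) E
  let L := FractionRing M
  let ι : Polynomial k →+* E := ((algebraMap A E).comp (Polynomial.aeval (g 0)).toRingHom)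
  have hι : Function.Injective ι := by
    rw [injective_iff_map_eq_zero]
    intro q hq
    by_contra hq0
    refine eval₂_ne_zero (g 0) (g 1) p hp hh (Polynomial.C q) (Polynomial.C_ne_zero.2 hq0) ?_
    rw [Polynomial.eval₂_C]
    exact IsFractionRing.injective A E (by rw [map_zero]; exact hq)
  letI : Algebra (Polynomial k) E := ι.toAlgebra
  haveI : Module.IsTorsionFree (Polynomial k) E := Module.isTorsionFree_iff_algebraMap_injective.2 hι
  have htr : ¬ IsAlgebraic (Polynomial k) (algebraMap A E (g 1)) := by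
    rintro ⟨Q, hQ0, hQ⟩
    refine eval₂_ne_zero (g 0) (g 1) p hp hh Q hQ0 (IsFractionRing.injective A E ?_)
    rw [map_zero, Polynomial.hom_eval₂]
    exact hQ
  let U0 : M := ∑ i, MvPolynomial.C (algebraMap A E (g i)) * MvPolynomial.X i
  let ψ : MvPolynomial (Fin (m + 2) ⊕ Fin 2) k →ₐ[k] Polynomial (MvPolynomial (Fin (m + 2)) (Polynomial k)) :=
    MvPolynomial.aeval (Sum.elim (fun i => Polynomial.C (MvPolynomial.X i))
      ![Polynomial.X, Polynomial.C (MvPolynomial.C Polynomial.X)])
  have hψ : Function.Injective ψ := by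
    let χ : Polynomial (MvPolynomial (Fin (m + 2)) (Polynomial k)) →+* MvPolynomial (Fin (m + 2) ⊕ Fin 2) k :=
      Polynomial.eval₂RingHom
        (MvPolynomial.eval₂Hom (Polynomial.aeval (MvPolynomial.X (Sum.inr 1) : MvPolynomial (Fin (m + 2) ⊕ Fin 2) k)).toRingHom
          fun i => MvPolynomial.X (Sum.inl i))
        (MvPolynomial.X (Sum.inr 0))
    have : χ.comp ψ.toRingHom = RingHom.id _ := MvPolynomial.ringHom_ext
      (fun r => by simp [χ, ψ, MvPolynomial.algebraMap_eq]) (fun i => by
        rcases i with i | i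
        · simp [χ, ψ]
        · fin_cases i <;> simp [χ, ψ])
    exact Function.LeftInverse.injective (g := χ) (RingHom.congr_fun this)
  rw [algebraicIndependent_iff]
  intro P hP
  by_contra hP0
  have hR0 : ψ P ≠ 0 := fun h => hP0 (hψ (by rw [h, map_zero]))
  let ev : Polynomial (MvPolynomial (Fin (m + 2)) (Polynomial k)) →+* M :=
    Polynomial.eval₂RingHom (MvPolynomial.map ι) U0
  have hev : ev (ψ P) = 0 := by
    apply IsFractionRing.injective M L
    rw [map_zero, ← hP]
    have hAL : ∀ x : A, algebraMap A L x = algebraMap M L (MvPolynomial.C (algebraMap A E x)) := fun x => by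
      rw [IsScalarTower.algebraMap_apply A M L, IsScalarTower.algebraMap_apply A E M, MvPolynomial.algebraMap_eq]
    let v : Fin (m + 2) ⊕ Fin 2 → L := Sum.elim (fun i => algebraMap M L (MvPolynomial.X i))
      ![∑ i, algebraMap A L (g i) * algebraMap M L (MvPolynomial.X i), algebraMap A L (g 0)]
    have hmX : ∀ i, (MvPolynomial.map ι (MvPolynomial.X i) : M) = MvPolynomial.X i := MvPolynomial.map_X ι
    have hmC : ∀ q, (MvPolynomial.map ι (MvPolynomial.C q) : M) = MvPolynomial.C (ι q) := MvPolynomial.map_C ι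
    have key : ((algebraMap M L).comp (ev.comp ψ.toRingHom)) = (MvPolynomial.aeval v : MvPolynomial (Fin (m + 2) ⊕ Fin 2) k →ₐ[k] L).toRingHom :=
      MvPolynomial.ringHom_ext (fun r => by
        simp [ev, ψ, MvPolynomial.algebraMap_eq, hmC]
        rw [IsScalarTower.algebraMap_apply k A L, hAL]
        simp [ι])
        (fun i => by
          rcases i with i | i
          · simp [ev, ψ, v, hmX]
          · fin_cases i
            · simp [ev, ψ, U0, v, hAL]
            · simp [ev, ψ, v, hAL, hmC]; simp [ι])
    exact RingHom.congr_fun key P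
  haveI : Infinite (Polynomial k) := inferInstance
  obtain ⟨a, ha, ha'⟩ := exists_translate (ψ P).leadingCoeff (Polynomial.leadingCoeff_ne_zero.2 hR0) 1
  have halg : ∀ a : Fin (m + 2) → Polynomial k, MvPolynomial.eval a (ψ P).leadingCoeff ≠ 0 →
      IsAlgebraic (Polynomial k) (∑ i, algebraMap A E (g i) * ι (a i)) := by
    intro a ha
    refine ⟨(ψ P).map (MvPolynomial.eval a), fun h => ha ?_, ?_⟩
    · have := congrArg (fun q => Polynomial.coeff q (ψ P).natDegree) h
      simpa [Polynomial.coeff_map] using this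
    · have h := congrArg (MvPolynomial.eval (fun i => ι (a i))) hev
      rw [map_zero] at h
      rw [Polynomial.aeval_def, Polynomial.eval₂_map]
      have h2 : (MvPolynomial.eval fun i => ι (a i)).comp (MvPolynomial.map ι) = ι.comp (MvPolynomial.eval a) :=
        MvPolynomial.ringHom_ext (fun r => by simp) (fun i => by simp)
      rw [show ev (ψ P) = Polynomial.eval₂ (MvPolynomial.map ι) U0 (ψ P) from rfl, Polynomial.hom_eval₂, h2] at h
      have hU : MvPolynomial.eval (fun i => ι (a i)) U0 = ∑ i, algebraMap A E (g i) * ι (a i) := by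
        rw [map_sum]
        refine Finset.sum_congr rfl fun i _ => ?_
        rw [map_mul, MvPolynomial.eval_C, MvPolynomial.eval_X]
      rw [hU] at h
      exact h
  refine htr ?_
  have h := (halg _ ha').sub (halg _ ha)
  have heq : ∑ i, algebraMap A E (g i) * ι ((a + Pi.single 1 1 : Fin (m + 2) → Polynomial k) i) - ∑ i, algebraMap A E (g i) * ι (a i) =
      algebraMap A E (g 1) := by
    rw [← Finset.sum_sub_distrib, Finset.sum_eq_single 1 (fun i _ hi => by simp [hi]) (by simp)]
    simp [mul_add]
  rw [heq] at h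
  exact h

end CodimTwoIndepLib
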